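import Cfsg.Agent.H58.TC.Frame
import Cfsg.Agent.H740.TC.RatThree
import Cfsg.Agent.H140.TC.Fam
import Cfsg.Agent.MonsterP.Equiv

/-!
# S4173, S2464, S2452: the row of the Monster (helper58)

* `prd` : every nontrivial element is a product of an element of order 59 and an element of order 41 (two fixed classes);
* `row3_MG`, `row3_m`, `tc_m`, `tc6_m`, `row3_M`, `tc_M`.
-/

set_option autoImplicit false
set_option maxRecDepth 100000

namespace Cfsg.Agent.H58.TC

open Cfsg Cfsg.Agent.MonsterX.MainPack Cfsg.Agent.LThreeMB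
open Cfsg.Agent.BpSpor.MBigModel
open Cfsg.Agent.H995.CopEngine (AllKnown)
open Cfsg.Agent.H715.Mon.Grp (SThree)
open Cfsg.Agent.Characters.Core
open Cfsg.Agent.H65.Ore (Prd)
open Subgroup (centralizer zpowers mem_centralizer_singleton_iff)

/-- **Two classes of the Monster.** -/
theorem prd (hK : AllKnown.{0}) (hS : SThree.{0}) (L : H455.OreM.Deg19.Loc) {a b : MG} (ha : orderOf a = 59)
    (hb : orderOf b = 41) {g : MG} (hg : g ≠ 1) : Prd a b g := by
  refine prd_of hK hS L ha hb (fun s hs h12 => ?_) g hg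
  refine ratio hK hS ha hb (H740.TC.RatThree.isConj_inv hs) (r1 := 252 / 10000) (r2 := 426 / 10000) (by norm_num)
    (fun χ h1 h2 h3 => ?_) (by norm_num)
  exact H740.TC.RatThree.bound L.c41 hs (h12.trans (by norm_num)) χ
    ((by norm_num : 1000000 ≤ 16134478425).trans (H606.OreM.deg_59_41 L χ h1 h2 h3))

/-- **The row of the Monster on the model.** -/
theorem row3_MG (B : H940.Eng.Base) : H210.TC.Row3 MG := by
  have hfin : Finite MG := BpSpor.MBigModel.finite
  have hK := Cfsg.Agent.H438.Fpr.Mon.allKnown B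
  have hS := Cfsg.Agent.H715.Mon.Grp.sThree B
  obtain ⟨a, ha⟩ := Cfsg.Agent.H455.OreM.Deg19.exists_order (r := 59) (by norm_num) (by norm_num)
  obtain ⟨b, hb⟩ := Cfsg.Agent.H455.OreM.Deg19.exists_order (r := 41) (by norm_num) (by norm_num)
  exact H529.MSev.Cube59.row3_MG hK hS ha hb fun g hg => prd hK hS (Cfsg.Agent.H455.OreM.Deg19.loc B) ha hb hg

/-- **The row of the Monster.** -/
theorem row3_M (B : H940.Eng.Base) {S : Type*} [Group S] (h : Spor.IsoM S) : H210.TC.Row3 S := by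
  obtain ⟨e⟩ := h
  obtain ⟨f⟩ := Cfsg.Agent.MonsterP.Equiv.equiv
  exact (row3_MG B).of_equiv (e.trans f)

/-- S4173 -/
theorem tc_M (B : H940.Eng.Base) {S : Type*} [Group S] (h : Spor.IsoM S) : H140.TC.TC S := (row3_M B h).tc

/-- S2464 -/
theorem tc6_M (B : H940.Eng.Base) {S : Type*} [Group S] (h : Spor.IsoM S) :
    ∃ x y : S, Nat.Coprime (orderOf x) 6 ∧ Nat.Coprime (orderOf y) 6 ∧
      ∀ g : S, g ≠ 1 → ∃ u v : S, g = (u * x * u⁻¹) * (v * y * v⁻¹) := (row3_M B h).s2464

end Cfsg.Agent.H58.TC
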