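import Cfsg.Agent.H58.TC.RatioM
import Cfsg.Agent.H529.MSev.Cube59
import Cfsg.Agent.H606.OreM.Deg5941
import Cfsg.Agent.H635.TC.RatQ
import Cfsg.Agent.H909.PwM.Even
import Cfsg.Agent.H740.OreM.ThreeBd
import Cfsg.Agent.H562.OreM.ThreeOdd
import Cfsg.Agent.H199.AbMon
import Cfsg.Agent.H455.OreM.Loc

/-!
# The Monster: products of an element of order 59 and an element of order 41 (helper58)

* `cases` : the elements of the Monster: `Q`, the elements of order 3 of fixed rank 12, `|C(g)| ≤ 4 · 10 ^ 18`;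
* `prd_Q` : the elements of `Q`;
* `prd_small` : the elements with `|C(g)| ≤ 4 · 10 ^ 18`;
* `prd_of` : all the nontrivial elements, from the elements of order 3 of fixed rank 12.
-/

set_option autoImplicit false
set_option maxRecDepth 100000

namespace Cfsg.Agent.H58.TC

open Cfsg Cfsg.Agent.MonsterX Cfsg.Agent.MonsterX.InstData Cfsg.Agent.MonsterX.MainPack Cfsg.Agent.MonsterU
open Cfsg.Agent.MonsterP Cfsg.Agent.MonsterN Cfsg.Agent.LThreeMB
open Cfsg.Agent.MonsterX.MainBasic Cfsg.Agent.MonsterX.MainSimple Cfsg.Agent.MonsterX.Model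
open Cfsg.Agent.MonsterU.Lam2 Cfsg.Agent.MonsterU.TwoCls
open Cfsg.Agent.BpSpor.MBigModel Cfsg.Agent.H199.NSmMon
open Cfsg.Spor (Co1)
open Cfsg.Agent.H995.CopEngine (AllKnown)
open Cfsg.Agent.H715.Mon.Grp (SThree)
open Cfsg.Agent.Characters.Core
open Cfsg.Agent.H65.Ore (Prd)
open Subgroup (centralizer zpowers mem_centralizer_singleton_iff)

/-- **The elements of the Monster.** -/
theorem cases (hK : AllKnown.{0}) (hS : SThree.{0}) {P : MG → Prop} (hP : ∀ g k : MG, P (k * g * k⁻¹) → P g)
    (hQ : ∀ x : MG, x ∈ (KDone.K.ι).range → x ≠ 1 → P x)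
    (hFi : ∀ s : centralizer ({zz} : Set MG), orderOf s = 3 → fr (pi s) = 2 ^ 12 → P (s : MG))
    (hC : ∀ g : MG, Nat.card ↥(centralizer ({g} : Set MG)) ≤ 4 * 10 ^ 18 → P g) (g : MG) (hg1 : g ≠ 1) : P g := by
  have hfin : Finite MG := BpSpor.MBigModel.finite
  have := simple
  have hKK : (26489012826931200 : ℕ) ≤ 4 * 10 ^ 18 := by norm_num
  have hB : ∀ {x : MG} {q : ℕ}, q.Prime → 5 ≤ q → orderOf x = q →
      Nat.card ↥(centralizer ({x} : Set MG)) ≤ H909.PwM.Base.KK := fun hq h5 hx =>
    (H58.MonFin.hB hK hS hq h5 hx).trans (by norm_num)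
  -- even order
  by_cases h2 : 2 ∣ orderOf g
  · rcases H909.PwM.Even.even hB h2 with ⟨k, hk⟩ | h
    · refine hP g k (hQ _ hk fun h => hg1 ?_)
      rw [mul_inv_eq_one] at h
      exact mul_eq_left.1 h
    · exact hC g (h.trans hKK)
  by_cases hk : ∃ k, g ^ 3 ^ k = 1
  · by_cases hg3 : g ^ 3 = 1
    · -- order 3
      have ho : orderOf g = 3 := orderOf_eq_prime hg3 hg1
      by_cases hv : ∃ v : MG, orderOf v = 2 ∧ v * g = g * v
      · obtain ⟨v, hv, hvg⟩ := hv
        have hvv : v * v = 1 := by rw [← pow_two, ← hv, pow_orderOf_eq_one]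
        have hv1 : v ≠ 1 := by
          rintro rfl
          rw [orderOf_one] at hv
          norm_num at hv
        obtain ⟨m, hm⟩ := Cfsg.Agent.LThreeM.FiRow.exists_z_of_comm (x := g) hg3 hvv hv1 hvg.symm
        have hm' : (m * zz * m⁻¹) * g = g * (m * zz * m⁻¹) := hm
        have hmz : (m⁻¹ * g * m⁻¹⁻¹) * zz = zz * (m⁻¹ * g * m⁻¹⁻¹) := by
          rw [inv_inv]
          calc (m⁻¹ * g * m) * zz = m⁻¹ * (g * (m * zz * m⁻¹)) * m := by group
            _ = m⁻¹ * ((m * zz * m⁻¹) * g) * m := by rw [hm']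
            _ = _ := by group
        apply hP g m⁻¹
        have hyo' : orderOf (m⁻¹ * g * m⁻¹⁻¹) = 3 := by
          rw [← ho, ← MulAut.conj_apply, MulEquiv.orderOf_eq]
        generalize m⁻¹ * g * m⁻¹⁻¹ = s at hmz hyo' ⊢
        let x : centralizer ({zz} : Set MG) := ⟨s, mem_centralizer_singleton_iff.2 hmz⟩
        have hx : orderOf x = 3 := by
          show orderOf (⟨s, _⟩ : centralizer ({zz} : Set MG)) = 3
          rw [Subgroup.orderOf_mk, hyo']
        have I := CoOneFin.coOne
        have hzero : ∀ y : centralizer ({zz} : Set MG), orderOf y = 3 → fr (pi y) = 1 →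
            Nat.card ↥(centralizer ({(y : MG)} : Set MG)) ≤ 4 * 10 ^ 18 := fun y hy h =>
          (Nat.le_of_dvd (by norm_num) (H199.AbMon.three_zero' hy h)).trans (by norm_num)
        rcases I.ranks (pi x) (orderOf_pi chart hx) with h1 | h1 | h1 | h1
        · exact hC s (hzero x hx h1)
        · have htr := KPair.trNe KDone.lft LThreeB.Row.cent (LThreeMBTr.traceNe KDone.lft LThreeMBTr.TensK.tens)
          obtain ⟨x₀, u, g₁, hx₀, hfr₀, huz, hux, hne, hg₁⟩ :=
            KPair.hasPair KDone.lft LThreeB.Row.cent PreUniq.MonRow.second COct.octPair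
          obtain ⟨c, hc⟩ := conj_six chart htr I.ranks I.six
            (fun x hx h2 => ⟨(good_of_inputs chart I hx h2 : Good.{0} _).simple,
              (good_of_inputs chart I hx h2 : Good.{0} _).nc⟩)
            hx₀ hfr₀ huz hux hne hg₁ hx h1
          refine hC s ?_
          rw [← BpSpor.card_cent_of_conj hc]
          exact hzero x₀ hx₀ hfr₀
        · obtain ⟨e⟩ := LThreeB.isoTh_of_inputs chart I hx h1
          refine hC s ?_
          rw [card_XX, hyo', Nat.card_congr e.toEquiv, Cfsg.Agent.S1700.result.2]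
          norm_num
        · exact hFi x hx h1
      · push Not at hv
        exact hC g ((H562.OreM.ThreeOdd.three_odd_bound hK hS ho hv).trans (by norm_num))
    · -- order `3 ^ k`, `k ≥ 2`
      rcases H740.OreM.ThreeBd.nine hk hg3 with h | ⟨y, hy, hyo, hyt⟩
      · exact hC g (h.trans hKK)
      · refine hC g (le_trans (Subgroup.card_le_of_le fun c hc => mem_centralizer_singleton_iff.2 ?_)
          ((H562.OreM.ThreeOdd.three_odd_bound hK hS hyo hyt).trans (by norm_num)))
        obtain ⟨i, rfl⟩ := Subgroup.mem_zpowers_iff.1 hy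
        exact (show Commute c g from mem_centralizer_singleton_iff.1 hc).zpow_right i
  · -- a prime divisor `q ≥ 5`
    obtain ⟨q, hq, hq5, hqd⟩ : ∃ q : ℕ, q.Prime ∧ 5 ≤ q ∧ q ∣ orderOf g := by
      by_contra hno
      push Not at hno
      apply hk
      refine ⟨(orderOf g).primeFactorsList.length, ?_⟩
      have h4 := Nat.eq_prime_pow_of_unique_prime_dvd (n := orderOf g) (p := 3) (orderOf_pos g).ne' (fun {d} hd hdn => by
        by_contra hne
        have h5 : d ≠ 2 := fun e => h2 (e ▸ hdn)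
        have h6 : d < 5 := by
          by_contra h7
          exact hno d hd (by omega) hdn
        have h7 := hd.two_le
        interval_cases d
        · exact h5 rfl
        · exact hne rfl
        · norm_num at hd)
      rw [← h4, pow_orderOf_eq_one]
    obtain ⟨m, hm⟩ := hqd
    have hm0 : m ≠ 0 := by
      rintro rfl
      have := orderOf_pos g
      omega
    have hx : orderOf (g ^ m) = q := by
      rw [orderOf_pow_of_dvd hm0 (Dvd.intro_left q hm.symm), hm, Nat.mul_div_cancel _ (Nat.pos_of_ne_zero hm0)]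
    exact hC g (((H909.PwM.Even.card_cent_pow g m).trans (hB hq hq5 hx)).trans (by norm_num))

section

variable (hK : AllKnown.{0}) (hS : SThree.{0}) (L : H455.OreM.Deg19.Loc) {a b : MG} (ha : orderOf a = 59)
  (hb : orderOf b = 41)

include hK hS L ha hb

/-- the elements with small centralizers -/
theorem prd_small {g : MG} (hg : Nat.card ↥(centralizer ({g} : Set MG)) ≤ 4 * 10 ^ 18) : Prd a b g :=
  H529.MSev.T5941.t1_5941 hK hS (D := 16134478425) (B := 4 * 10 ^ 18)
    (fun χ h1 h2 h3 => H606.OreM.deg_59_41 L χ h1 h2 h3) (by norm_num) ha hb hg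

/-- **The elements of `2^(1+24)`.** -/
theorem prd_Q {x : MG} (hx : x ∈ (KDone.K.ι).range) (hx1 : x ≠ 1) : Prd a b x := by
  refine ratio hK hS ha hb (H635.TC.RatQ.isConj_inv hx) (r1 := 1 / 400) (r2 := 1 / 21) (by norm_num)
    (fun χ h1 h2 h3 => ?_) (by norm_num)
  exact H635.TC.RatQ.bound L.c41 χ ((by norm_num : 1000000 ≤ 16134478425).trans (H606.OreM.deg_59_41 L χ h1 h2 h3)) hx hx1

/-- **All the elements.** -/
theorem prd_of (hFi : ∀ s : centralizer ({zz} : Set MG), orderOf s = 3 → fr (pi s) = 2 ^ 12 → Prd a b (s : MG)) (g : MG)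
    (hg : g ≠ 1) : Prd a b g := by
  refine cases hK hS (P := Prd a b) (fun g k h => ?_) (fun x hx hx1 => prd_Q hK hS L ha hb hx hx1) hFi
    (fun g h => prd_small hK hS L ha hb h) g hg
  have h1 := h.conj k⁻¹
  rwa [show k⁻¹ * (k * g * k⁻¹) * k⁻¹⁻¹ = g by group] at h1

end

end Cfsg.Agent.H58.TC
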