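import Cfsg.Agent.H938.Pw.Avg
import Cfsg.Agent.H149.Sp.Quot

/-!
# Products of two classes: the ratio argument (helper58)

* `exists_prd_of_ratio` : `W`, `U` the columns of two subgroups, orthogonal to each other, `∑_{χ ≠ 1} |W U| ≤ M`; if
  `- r1 χ(1) ≤ Re χ(g) ≤ r2 χ(1)` for all `χ ≠ 1` with `W U ≠ 0`, and `M (r1 + r2) + w (r2 - r1) < 2 w`, `w` the value of
  `W U` at the trivial character, then `g` is a product;
* `conj_full`, `conj_half` : the elements of prime order `p`, if the order of `N(x)` is `p (p - 1)`, `p (p - 1) / 2` (odd).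
-/

set_option autoImplicit false
set_option linter.unusedSectionVars false

open Cfsg Subgroup
open scoped ComplexConjugate

namespace Cfsg.Agent.H58.TC

open Cfsg.Agent.Characters.Core
open Cfsg.Agent.H653.Sieve
open Cfsg.Agent.H65.Ore
open Cfsg.Agent.H938.Pw.Avg (exists_prd_of_ne_zero deg_pos)

universe u

variable {G : Type u} [Group G] [Finite G]

/-- **The ratio argument.** -/
theorem exists_prd_of_ratio [Fintype (IrrCharacter G)] [DecidableEq (IrrCharacter G)] {H K : Subgroup G} {e e' : ℕ}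
    {W U : IrrCharacter G → ℤ} (hW : IsCol H e W) (hU : IsCol K e' U) (he : e ≠ 0) (he' : e' ≠ 0)
    (horth : ∑ χ : IrrCharacter G, W χ * U χ = 0) {g : G} {r1 r2 M : ℝ}
    (hM : ∑ χ ∈ Finset.univ.erase (one1 G), |((W χ * U χ : ℤ) : ℝ)| ≤ M) (hr0 : 0 ≤ r1 + r2)
    (hr : ∀ χ : IrrCharacter G, (χ : G → ℂ) ≠ 1 → W χ * U χ ≠ 0 →
      -(r1 * (H653.Sieve.deg χ : ℝ)) ≤ ((χ : G → ℂ) g).re ∧ ((χ : G → ℂ) g).re ≤ r2 * (H653.Sieve.deg χ : ℝ))
    (hlt : M * (r1 + r2) + ((W (one1 G) * U (one1 G) : ℤ) : ℝ) * (r2 - r1) <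
      2 * ((W (one1 G) * U (one1 G) : ℤ) : ℝ)) :
    ∃ x ∈ H, x ≠ 1 ∧ ∃ y ∈ K, y ≠ 1 ∧ Prd x y g := by
  apply exists_prd_of_ne_zero
  intro h0
  have hc : ((e : ℂ) * e') ≠ 0 := by
    have h1 : (e : ℂ) ≠ 0 := by exact_mod_cast he
    have h2 : (e' : ℂ) ≠ 0 := by exact_mod_cast he'
    exact mul_ne_zero h1 h2
  have h1 : ∑ χ : IrrCharacter G, ((W χ * U χ : ℤ) : ℂ) * conj ((χ : G → ℂ) g) / (χ : G → ℂ) 1 = 0 := by
    have h2 : ((e : ℂ) * e') * ∑ χ : IrrCharacter G, ((W χ * U χ : ℤ) : ℂ) * conj ((χ : G → ℂ) g) / (χ : G → ℂ) 1 = 0 := by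
      rw [← h0, Finset.mul_sum]
      refine Finset.sum_congr rfl fun χ _ => ?_
      rw [← hW χ, ← hU χ]
      push_cast
      ring
    exact (mul_eq_zero.1 h2).resolve_left hc
  -- the real part
  set c : ℝ := (r2 - r1) / 2 with hcdef
  have hterm : ∀ χ : IrrCharacter G, (((W χ * U χ : ℤ) : ℂ) * conj ((χ : G → ℂ) g) / (χ : G → ℂ) 1).re =
      ((W χ * U χ : ℤ) : ℝ) * (((χ : G → ℂ) g).re / (H653.Sieve.deg χ : ℝ)) := by
    intro χ
    rw [deg_cast]
    have h2 : ((W χ * U χ : ℤ) : ℂ) * conj ((χ : G → ℂ) g) / ((H653.Sieve.deg χ : ℕ) : ℂ) =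
        (((((W χ * U χ : ℤ) : ℝ) / (H653.Sieve.deg χ : ℝ) : ℝ)) : ℂ) * conj ((χ : G → ℂ) g) := by
      push_cast
      ring
    rw [h2, Complex.re_ofReal_mul, Complex.conj_re]
    ring
  have h2 := congrArg Complex.re h1
  rw [Complex.re_sum, Complex.zero_re, Finset.sum_congr rfl fun χ _ => hterm χ] at h2
  have h3 : ∑ χ : IrrCharacter G, ((W χ * U χ : ℤ) : ℝ) * (((χ : G → ℂ) g).re / (H653.Sieve.deg χ : ℝ) - c) = 0 := by
    have h4 : ∑ χ : IrrCharacter G, ((W χ * U χ : ℤ) : ℝ) * c = 0 := by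
      rw [← Finset.sum_mul, ← Int.cast_sum, horth, Int.cast_zero, zero_mul]
    rw [Finset.sum_congr rfl fun χ _ => mul_sub _ _ _, Finset.sum_sub_distrib, h2, h4, sub_zero]
  rw [← Finset.add_sum_erase Finset.univ _ (Finset.mem_univ (one1 G))] at h3
  have hdeg1 : (H653.Sieve.deg (one1 G) : ℝ) = 1 := by
    have h4 := deg_cast (one1 G)
    rw [one1_apply] at h4
    exact_mod_cast h4.symm
  rw [one1_apply, hdeg1, Complex.one_re, div_one] at h3
  have h4 : ((W (one1 G) * U (one1 G) : ℤ) : ℝ) * (1 - c) =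
      -∑ χ ∈ Finset.univ.erase (one1 G), ((W χ * U χ : ℤ) : ℝ) * (((χ : G → ℂ) g).re / (H653.Sieve.deg χ : ℝ) - c) := by
    linarith
  have h5 : ((W (one1 G) * U (one1 G) : ℤ) : ℝ) * (1 - c) ≤ M * ((r1 + r2) / 2) := by
    rw [h4]
    refine (neg_le_abs _).trans ((Finset.abs_sum_le_sum_abs _ _).trans ?_)
    refine le_trans (Finset.sum_le_sum (g := fun χ => |((W χ * U χ : ℤ) : ℝ)| * ((r1 + r2) / 2)) fun χ hχ => ?_) ?_
    · rw [abs_mul]
      by_cases h0' : W χ * U χ = 0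
      · rw [h0', Int.cast_zero, abs_zero, zero_mul, zero_mul]
      · refine mul_le_mul_of_nonneg_left ?_ (abs_nonneg _)
        have hχ1 : (χ : G → ℂ) ≠ 1 := coe_ne_one (Finset.ne_of_mem_erase hχ)
        obtain ⟨h6, h7⟩ := hr χ hχ1 h0'
        have hd : (0 : ℝ) < (H653.Sieve.deg χ : ℝ) := by exact_mod_cast deg_pos χ
        have h8 : -r1 ≤ ((χ : G → ℂ) g).re / (H653.Sieve.deg χ : ℝ) := by
          rw [le_div_iff₀ hd]; linarith
        have h9 : ((χ : G → ℂ) g).re / (H653.Sieve.deg χ : ℝ) ≤ r2 := by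
          rw [div_le_iff₀ hd]; exact h7
        rw [abs_le, hcdef]
        constructor <;> linarith
    · rw [← Finset.sum_mul]
      exact mul_le_mul_of_nonneg_right hM (by linarith)
  rw [hcdef] at h5
  nlinarith

/-! ### Conjugacy -/

/-- the automorphisms of `⟨x⟩` induced by `N(⟨x⟩)` -/
theorem exists_aut {x : G} {p e : ℕ} (hc : Nat.card ↥(centralizer ({x} : Set G)) = p) (hp : p.Prime)
    (hn : Nat.card ↥(normalizer ((zpowers x : Subgroup G) : Set G)) = p * e) :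
    ∃ I : Subgroup (MulAut ↥(zpowers x)), Nat.card I = e ∧ ∀ σ ∈ I, ∃ g : G, ∀ y : ↥(zpowers x), (σ y : G) = g * y * g⁻¹ := by
  refine ⟨(zpowers x).normalizerMonoidHom.range, ?_, ?_⟩
  · have h1 := Subgroup.card_mul_index (zpowers x).normalizerMonoidHom.ker
    rw [hn] at h1
    have h2 : Nat.card ↥((zpowers x).normalizerMonoidHom.ker) = p := by
      rw [normalizerMonoidHom_ker, Nat.card_congr (Subgroup.subgroupOfEquivOfLe
        (centralizer_le_normalizer _)).toEquiv, SmallSimple.SelfCentPrime.centralizer_zpowers, hc]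
    rw [h2] at h1
    rw [← Subgroup.index_ker]
    exact Nat.eq_of_mul_eq_mul_left hp.pos h1
  · rintro σ ⟨n, rfl⟩
    exact ⟨n, fun y => rfl⟩

/-- transitivity of the automorphisms of a group of prime order -/
theorem exists_map {x y : G} {p : ℕ} (hp : p.Prime) (hx : orderOf x = p) (hy : y ∈ zpowers x) (hy1 : y ≠ 1) :
    ∃ σ : MulAut ↥(zpowers x), σ ⟨x, mem_zpowers x⟩ = ⟨y, hy⟩ := by
  have hP : Nat.card ↥(zpowers x) = p := by rw [Nat.card_zpowers, hx]
  have : Fact p.Prime := ⟨hp⟩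
  have hcyc : IsCyclic ↥(zpowers x) := isCyclic_of_prime_card hP
  let f : MulAut ↥(zpowers x) → {w : ↥(zpowers x) // w ≠ 1} := fun σ =>
    ⟨σ ⟨x, mem_zpowers x⟩, fun h => by
      have h1 : (⟨x, mem_zpowers x⟩ : ↥(zpowers x)) = 1 := σ.injective (by rw [h, map_one])
      have h2 : x = 1 := congrArg Subtype.val h1
      rw [h2, orderOf_one] at hx
      exact hp.ne_one hx.symm⟩
  have hinj : Function.Injective f := by
    intro σ τ h
    have h1 : σ ⟨x, mem_zpowers x⟩ = τ ⟨x, mem_zpowers x⟩ := congrArg Subtype.val h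
    apply MulEquiv.ext
    rintro ⟨w, k, rfl⟩
    have h2 : (⟨x ^ k, ⟨k, rfl⟩⟩ : ↥(zpowers x)) = (⟨x, mem_zpowers x⟩ : ↥(zpowers x)) ^ k := Subtype.ext rfl
    have h3 : (⟨(fun x_1 : ℤ => x ^ x_1) k, ⟨k, rfl⟩⟩ : ↥(zpowers x)) = (⟨x, mem_zpowers x⟩ : ↥(zpowers x)) ^ k :=
      Subtype.ext rfl
    rw [h3, map_zpow, map_zpow, h1]
  have hcard : Nat.card (MulAut ↥(zpowers x)) = Nat.card {w : ↥(zpowers x) // w ≠ 1} := by
    rw [IsCyclic.card_mulAut, hP, Nat.totient_prime hp]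
    have h1 : Nat.card {w : ↥(zpowers x) // w ≠ 1} = Nat.card ↥(zpowers x) - 1 := by
      have := Fintype.ofFinite ↥(zpowers x)
      classical
      rw [Nat.card_eq_fintype_card, Nat.card_eq_fintype_card, Fintype.card_subtype_compl]
      simp
    rw [h1, hP]
  have hbij := (Nat.bijective_iff_injective_and_card f).2 ⟨hinj, hcard⟩
  obtain ⟨σ, hσ⟩ := hbij.2 ⟨⟨y, hy⟩, fun h => hy1 (congrArg Subtype.val h)⟩
  exact ⟨σ, congrArg Subtype.val hσ⟩

/-- **Full normalizer.** -/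
theorem conj_full {x y : G} {p : ℕ} (hp : p.Prime) (hx : orderOf x = p) (hy : y ∈ zpowers x) (hy1 : y ≠ 1)
    (hc : Nat.card ↥(centralizer ({x} : Set G)) = p)
    (hn : Nat.card ↥(normalizer ((zpowers x : Subgroup G) : Set G)) = p * (p - 1)) : IsConj x y := by
  obtain ⟨I, hI, h⟩ := exists_aut hc hp hn
  have : Fact p.Prime := ⟨hp⟩
  have hP : Nat.card ↥(zpowers x) = p := by rw [Nat.card_zpowers, hx]
  have hcyc : IsCyclic ↥(zpowers x) := isCyclic_of_prime_card hP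
  have hfin : Finite (MulAut ↥(zpowers x)) := inferInstance
  have hA : Nat.card (MulAut ↥(zpowers x)) = p - 1 := by rw [IsCyclic.card_mulAut, hP, Nat.totient_prime hp]
  have htop : I = ⊤ := Subgroup.eq_top_of_card_eq I (by rw [hI, hA])
  obtain ⟨σ, hσ⟩ := exists_map hp hx hy hy1
  obtain ⟨g, hg⟩ := h σ (by rw [htop]; trivial)
  have h1 := hg ⟨x, mem_zpowers x⟩
  rw [hσ] at h1
  exact isConj_iff.2 ⟨g, h1.symm⟩

/-- **Normalizer of index 2, odd.** -/
theorem conj_half {x y : G} {p m : ℕ} (hp : p.Prime) (hx : orderOf x = p) (hy : y ∈ zpowers x) (hy1 : y ≠ 1)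
    (hc : Nat.card ↥(centralizer ({x} : Set G)) = p) (hm : p - 1 = 2 * m) (hmo : Odd m)
    (hn : Nat.card ↥(normalizer ((zpowers x : Subgroup G) : Set G)) = p * m) : IsConj x y ∨ IsConj x y⁻¹ := by
  obtain ⟨I, hI, h⟩ := exists_aut hc hp hn
  have : Fact p.Prime := ⟨hp⟩
  have hP : Nat.card ↥(zpowers x) = p := by rw [Nat.card_zpowers, hx]
  have hcyc : IsCyclic ↥(zpowers x) := isCyclic_of_prime_card hP
  have hfin : Finite (MulAut ↥(zpowers x)) := inferInstance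
  have hA : Nat.card (MulAut ↥(zpowers x)) = p - 1 := by rw [IsCyclic.card_mulAut, hP, Nat.totient_prime hp]
  have hm0 : 0 < m := hmo.pos
  have hidx : I.index = 2 := by
    have h1 := I.card_mul_index
    rw [hI, hA, hm, mul_comm 2 m] at h1
    exact Nat.eq_of_mul_eq_mul_left hm0 h1
  let ι : MulAut ↥(zpowers x) :=
    { toFun := fun w => w⁻¹
      invFun := fun w => w⁻¹
      left_inv := fun w => inv_inv w
      right_inv := fun w => inv_inv w
      map_mul' := fun a b => by rw [mul_inv_rev, mul_comm'] }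
  have hι2 : ι * ι = 1 := by
    apply MulEquiv.ext
    intro w
    exact inv_inv w
  have hι1 : ι ≠ 1 := by
    intro h1
    have h2 : ι ⟨x, mem_zpowers x⟩ = ⟨x, mem_zpowers x⟩ := by rw [h1]; rfl
    have h3 : x⁻¹ = x := congrArg Subtype.val h2
    have h4 : x ^ 2 = 1 := by
      rw [pow_two]
      nth_rewrite 1 [← h3]
      exact inv_mul_cancel x
    have h5 := orderOf_dvd_of_pow_eq_one h4
    rw [hx] at h5
    have h6 := Nat.le_of_dvd (by norm_num) h5
    omega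
  have hιI : ι ∉ I := by
    intro hmem
    have h1 : orderOf (⟨ι, hmem⟩ : I) ∣ m := by
      rw [← hI]
      exact orderOf_dvd_natCard _
    have h2 : orderOf (⟨ι, hmem⟩ : I) = 2 := by
      refine orderOf_eq_prime ?_ ?_
      · rw [pow_two]
        exact Subtype.ext hι2
      · intro h3
        exact hι1 (congrArg Subtype.val h3)
    rw [h2] at h1
    exact (Nat.not_even_iff_odd.2 hmo) (even_iff_two_dvd.2 h1)
  obtain ⟨σ, hσ⟩ := exists_map hp hx hy hy1
  by_cases hσI : σ ∈ I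
  · left
    obtain ⟨g, hg⟩ := h σ hσI
    have h1 := hg ⟨x, mem_zpowers x⟩
    rw [hσ] at h1
    exact isConj_iff.2 ⟨g, h1.symm⟩
  · right
    have h2 : ι * σ ∈ I := (Subgroup.mul_mem_iff_of_index_two hidx).2 ⟨fun h => absurd h hιI, fun h => absurd h hσI⟩
    obtain ⟨g, hg⟩ := h _ h2
    have h1 := hg ⟨x, mem_zpowers x⟩
    have h3 : (ι * σ) ⟨x, mem_zpowers x⟩ = (⟨y, hy⟩ : ↥(zpowers x))⁻¹ := by
      show ι (σ _) = _
      rw [hσ]
      rfl
    rw [h3] at h1
    exact isConj_iff.2 ⟨g, h1.symm⟩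

end Cfsg.Agent.H58.TC
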