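import Cfsg.Agent.H58.TC.Ratio
import Cfsg.Agent.H58.Mon.Fin
import Cfsg.Agent.H606.OreM.Sieve

/-!
# The Monster: products of an element of order 59 and an element of order 41, the ratio argument (helper58)

* `ratio` : `g` conjugate to `g⁻¹`, `- r1 χ(1) ≤ Re χ(g) ≤ r2 χ(1)` for the nontrivial `χ` of degree prime to 59 and 41,
  `30 r2 + 28 r1 < 2`: then `g = a ^ u b ^ v` for all `a`, `b` of orders 59, 41.
-/

set_option autoImplicit false
set_option maxRecDepth 100000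

open Cfsg Subgroup

namespace Cfsg.Agent.H58.TC

open Cfsg.Agent.BpSpor.MBigModel
open Cfsg.Agent.Characters.Core
open Cfsg.Agent.H653.Sieve
open Cfsg.Agent.H65.Ore
open Cfsg.Agent.H606.OreM (not_comm_MG finMG simpleMG)
open Cfsg.Agent.H995.CopEngine (AllKnown)

/-- the order of the Monster -/
abbrev NM : ℕ := 808017424794512875886459904961710757005754368000000000

theorem num59 : numOK NM 59 1 29 2 [(0, 0), (1, 2), (58, -2), (30, 1), (29, -1)] 2 true = true := by decide +kernel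

theorem num41 : numOK NM 41 1 40 1 [(0, 0), (1, 1), (40, -1)] 0 false = true := by decide +kernel

theorem mem59 {d : ℕ} {w : ℤ} (h : (d % 59, w) ∈ ([(0, 0), (1, 2), (58, -2), (30, 1), (29, -1)] : List (ℕ × ℤ))) :
    (59 ∣ d → w = 0) ∧ 2 * |w| = w * w + (bif Nat.beq w.natAbs 1 then (1 : ℤ) else 0) := by
  simp only [List.mem_cons, Prod.mk.injEq, List.not_mem_nil, or_false] at h
  rcases h with ⟨h1, rfl⟩ | ⟨h1, rfl⟩ | ⟨h1, rfl⟩ | ⟨h1, rfl⟩ | ⟨h1, rfl⟩
  · exact ⟨fun _ => rfl, by decide⟩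
  all_goals exact ⟨fun h => absurd (Nat.mod_eq_zero_of_dvd h) (by omega), by decide⟩

theorem mem41 {d : ℕ} {w : ℤ} (h : (d % 41, w) ∈ ([(0, 0), (1, 1), (40, -1)] : List (ℕ × ℤ))) :
    (41 ∣ d → w = 0) ∧ |w| ≤ 1 := by
  simp only [List.mem_cons, Prod.mk.injEq, List.not_mem_nil, or_false] at h
  rcases h with ⟨h1, rfl⟩ | ⟨h1, rfl⟩ | ⟨h1, rfl⟩
  · exact ⟨fun _ => rfl, by decide⟩
  all_goals exact ⟨fun h => absurd (Nat.mod_eq_zero_of_dvd h) (by omega), by decide⟩

/-- the elements of order 59 -/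
theorem conj59 (hK : AllKnown.{0}) {a x : MG} (ha : orderOf a = 59) (hx : orderOf x = 59) : IsConj a x ∨ IsConj a x⁻¹ := by
  have := finite
  obtain ⟨k, hk⟩ := H149.Sp.Eng.exists_conj (r := 59) (by norm_num) (by rw [card_M]; norm_num) hx ha
  have hko : orderOf (k * a * k⁻¹) = 59 := by
    rw [← ha]
    exact MulEquiv.orderOf_eq (MulAut.conj k) a
  obtain ⟨h1, h2⟩ := H58.Cop.M.norm_fiftynine hK hko
  have h3 : IsConj a (k * a * k⁻¹) := isConj_iff.2 ⟨k, rfl⟩
  have hx1 : x ≠ 1 := by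
    rintro rfl
    rw [orderOf_one] at hx
    norm_num at hx
  rcases conj_half (m := 29) (by norm_num) hko hk hx1 h1 (by norm_num) (by decide) h2 with h | h
  · exact Or.inl (h3.trans h)
  · exact Or.inr (h3.trans h)

/-- the elements of order 41 -/
theorem conj41 (hK : AllKnown.{0}) (hS : H715.Mon.Grp.SThree.{0}) {b y : MG} (hb : orderOf b = 41) (hy : orderOf y = 41) :
    IsConj b y := by
  have := finite
  have h0 : H241.NH.Three.{0} := H241.NH.three_of fun X hX hC => hS _ X hX hC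
  obtain ⟨k, hk⟩ := H149.Sp.Eng.exists_conj (r := 41) (by norm_num) (by rw [card_M]; norm_num) hy hb
  have hko : orderOf (k * b * k⁻¹) = 41 := by
    rw [← hb]
    exact MulEquiv.orderOf_eq (MulAut.conj k) b
  obtain ⟨h1, h2⟩ := H979.OreM.norm_41 hK h0 hko
  have h3 : IsConj b (k * b * k⁻¹) := isConj_iff.2 ⟨k, rfl⟩
  have hy1 : y ≠ 1 := by
    rintro rfl
    rw [orderOf_one] at hy
    norm_num at hy
  exact h3.trans (conj_full (by norm_num) hko hk hy1 h1 h2)

theorem prd_inv {G : Type*} [Group G] {x y g : G} (h : Prd x y g) : Prd x⁻¹ y⁻¹ g⁻¹ := by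
  obtain ⟨a, b, rfl⟩ := h
  refine Prd.swap ⟨b, a, ?_⟩
  group

/-- **The ratio argument for the Monster.** -/
theorem ratio (hK : AllKnown.{0}) (hS : H715.Mon.Grp.SThree.{0}) {a b g : MG} (ha : orderOf a = 59) (hb : orderOf b = 41)
    (hg : IsConj g g⁻¹) {r1 r2 : ℝ} (hr0 : 0 ≤ r1 + r2)
    (hr : ∀ χ : IrrCharacter MG, (χ : MG → ℂ) ≠ 1 → ¬ 59 ∣ charDegree (χ : MG → ℂ) → ¬ 41 ∣ charDegree (χ : MG → ℂ) →
      -(r1 * (charDegree (χ : MG → ℂ) : ℝ)) ≤ ((χ : MG → ℂ) g).re ∧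
        ((χ : MG → ℂ) g).re ≤ r2 * (charDegree (χ : MG → ℂ) : ℝ))
    (hlt : 30 * r2 + 28 * r1 < 2) : Prd a b g := by
  classical
  have : Finite (IrrCharacter MG) := finite_irr
  have := Fintype.ofFinite (IrrCharacter MG)
  have hp59 : Fact (Nat.Prime 59) := ⟨by norm_num⟩
  have hp41 : Fact (Nat.Prime 41) := ⟨by norm_num⟩
  have h0 : H241.NH.Three.{0} := H241.NH.three_of fun X hX hC => hS _ X hX hC
  obtain ⟨P, W, hP, he, hcol, hok⟩ := exists_col not_comm_MG card_M ha (k := 1)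
    (by rw [(H58.Cop.M.norm_fiftynine hK ha).1]) 29 2 [(0, 0), (1, 2), (58, -2), (30, 1), (29, -1)] 2 true num59
  obtain ⟨P', U, hP', he', hcol', hok'⟩ := exists_col not_comm_MG card_M hb (k := 1)
    (by rw [(H979.OreM.norm_41 hK h0 hb).1]) 40 1 [(0, 0), (1, 1), (40, -1)] 0 false num41
  have horth : ∑ χ : IrrCharacter MG, W χ * U χ = 0 := orth_of_ne (by norm_num) hP hP' hcol hcol' he he'
  have hone : ((one1 MG : IrrCharacter MG) : MG → ℂ) = 1 := rfl
  have hW1 : W (one1 MG) = 2 := hok.one _ hone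
  have hU1 : U (one1 MG) = 1 := hok'.one _ hone
  have hsq : ∑ χ : IrrCharacter MG, W χ * W χ = 118 := hok.sq
  have hcnt : ∑ χ : IrrCharacter MG, (bif Nat.beq (W χ).natAbs 1 then (1 : ℤ) else 0) = 2 := hok.cnt rfl
  have hm59 := fun χ => mem59 (hok.mem χ)
  have hm41 := fun χ => mem41 (hok'.mem χ)
  -- the sum
  have hsum : ∑ χ : IrrCharacter MG, |W χ| = 60 := by
    have h1 : ∑ χ : IrrCharacter MG, 2 * |W χ| = 120 := by
      rw [Finset.sum_congr rfl fun χ _ => (hm59 χ).2, Finset.sum_add_distrib, hsq, hcnt]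
      norm_num
    rw [← Finset.mul_sum] at h1
    omega
  have hsum' : ∑ χ ∈ Finset.univ.erase (one1 MG), |W χ| = 58 := by
    rw [← Finset.add_sum_erase Finset.univ _ (Finset.mem_univ (one1 MG)), hW1] at hsum
    have : |(2 : ℤ)| = 2 := rfl
    rw [this] at hsum
    linarith
  have hM : ∑ χ ∈ Finset.univ.erase (one1 MG), |((W χ * U χ : ℤ) : ℝ)| ≤ 58 := by
    have h1 : ∑ χ ∈ Finset.univ.erase (one1 MG), |((W χ * U χ : ℤ) : ℝ)| ≤
        ∑ χ ∈ Finset.univ.erase (one1 MG), ((|W χ| : ℤ) : ℝ) := by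
      refine Finset.sum_le_sum fun χ _ => ?_
      rw [← Int.cast_abs, abs_mul]
      exact_mod_cast mul_le_of_le_one_right (abs_nonneg _) (hm41 χ).2
    rw [← Int.cast_sum, hsum'] at h1
    exact_mod_cast h1
  obtain ⟨x, hxP, hx1, y, hyP, hy1, hxy⟩ := exists_prd_of_ratio (g := g) hcol hcol' he he' horth hM hr0
    (fun χ hχ hne => by
      refine hr χ hχ (fun h => hne ?_) (fun h => hne ?_)
      · rw [(hm59 χ).1 h, zero_mul]
      · rw [(hm41 χ).1 h, mul_zero]) (by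
    rw [hW1, hU1]
    push_cast
    linarith)
  have hord : ∀ {p : ℕ} [Fact p.Prime] {P : Sylow p MG}, Nat.card P = p → ∀ {c : MG}, c ∈ P → c ≠ 1 → orderOf c = p := by
    intro p hp P hP c hc hc1
    have h1 : orderOf c ∣ p := ((P : Subgroup MG).orderOf_dvd_natCard hc).trans (dvd_of_eq hP)
    rcases (Nat.dvd_prime hp.out).1 h1 with h | h
    · exact absurd (orderOf_eq_one_iff.1 h) hc1
    · exact h
  have hxo := hord hP hxP hx1
  have hyo := hord hP' hyP hy1
  have hyb : IsConj y b := conj41 hK hS hyo hb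
  rcases conj59 hK ha hxo with h | h
  · exact (hxy.congr_left h.symm).congr_right hyb
  · have h1 : Prd x⁻¹ y⁻¹ g⁻¹ := prd_inv hxy
    have h2 : IsConj y⁻¹ b := conj41 hK hS (by rw [orderOf_inv, hyo]) hb
    exact ((h1.congr_left h.symm).congr_right h2).of_isConj hg.symm

end Cfsg.Agent.H58.TC
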